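import Groth.Agent.Lib.Helper18.ArithZeta.Basic

/-! # Summability of the Dirichlet series of effective cycles -/

set_option autoImplicit false
set_option linter.style.haveILetI false
set_option linter.unusedSectionVars false

namespace Groth.Agent.Lib.Helper18.ArithZeta

variable {P : Type*}

/-- The weight of a cycle. -/
noncomputable def wt (t : P → ℝ) (α : P →₀ ℕ) : ℝ := α.prod (fun x j => t x ^ j)

lemma wt_nonneg (t : P → ℝ) (ht : ∀ x, 0 ≤ t x) (α : P →₀ ℕ) : 0 ≤ wt t α :=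
  Finset.prod_nonneg fun x _ => pow_nonneg (ht x) _

lemma wt_zero (t : P → ℝ) : wt t 0 = 1 := Finsupp.prod_zero_index

lemma wt_erase (t : P → ℝ) (α : P →₀ ℕ) (y : P) :
    wt t α = t y ^ α y * wt t (α.erase y) :=
  (Finsupp.mul_prod_erase' α y (fun x j => t x ^ j) (fun _ => pow_zero _)).symm

lemma geom_le (u : ℝ) (h0 : 0 ≤ u) (h1 : u < 1) (n : ℕ) :
    ∑ j ∈ Finset.range n, u ^ j ≤ (1 - u)⁻¹ := by
  rw [← tsum_geometric_of_lt_one h0 h1]
  exact (summable_geometric_of_lt_one h0 h1).sum_le_tsum _ (fun _ _ => pow_nonneg h0 _)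

theorem sum_wt_le (t : P → ℝ) (ht0 : ∀ x, 0 ≤ t x) (ht1 : ∀ x, t x < 1) (S : Finset P) :
    ∀ T : Finset (P →₀ ℕ), (∀ α ∈ T, α.support ⊆ S) →
      ∑ α ∈ T, wt t α ≤ ∏ x ∈ S, (1 - t x)⁻¹ := by
  classical
  induction S using Finset.induction_on with
  | empty =>
    intro T hT
    have h1 : T ⊆ {0} := by
      intro α hα
      rw [Finset.mem_singleton, ← Finsupp.support_eq_empty]
      exact Finset.subset_empty.mp (hT α hα)
    calc ∑ α ∈ T, wt t α ≤ ∑ α ∈ ({0} : Finset (P →₀ ℕ)), wt t α :=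
          Finset.sum_le_sum_of_subset_of_nonneg h1 (fun α _ _ => wt_nonneg t ht0 α)
      _ = 1 := by rw [Finset.sum_singleton, wt_zero]
      _ = _ := by simp
  | insert y S' hy ih =>
    intro T hT
    set M := T.sup (fun α => α y) with hM
    have hmaps : ∀ α ∈ T, α y ∈ Finset.range (M + 1) := by
      intro α hα
      rw [Finset.mem_range, Nat.lt_succ_iff]
      exact Finset.le_sup (f := fun α : P →₀ ℕ => α y) hα
    rw [← Finset.sum_fiberwise_of_maps_to hmaps, Finset.prod_insert hy]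
    have hP : 0 ≤ ∏ x ∈ S', (1 - t x)⁻¹ :=
      Finset.prod_nonneg fun x _ => inv_nonneg.mpr (by have := ht1 x; linarith)
    have hj : ∀ j ∈ Finset.range (M + 1), ∑ α ∈ T.filter (fun α => α y = j), wt t α ≤
        t y ^ j * ∏ x ∈ S', (1 - t x)⁻¹ := by
      intro j _
      have h1 : ∀ α ∈ T.filter (fun α => α y = j), wt t α = t y ^ j * wt t (α.erase y) := by
        intro α hα
        rw [wt_erase t α y, (Finset.mem_filter.mp hα).2]
      rw [Finset.sum_congr rfl h1, ← Finset.mul_sum]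
      refine mul_le_mul_of_nonneg_left ?_ (pow_nonneg (ht0 y) j)
      have hinj : Set.InjOn (fun α : P →₀ ℕ => α.erase y)
          (T.filter (fun α => α y = j) : Set (P →₀ ℕ)) := by
        intro α hα β hβ hαβ
        rw [Finset.mem_coe, Finset.mem_filter] at hα hβ
        ext x
        by_cases hx : x = y
        · subst hx
          rw [hα.2, hβ.2]
        · have := congrArg (fun f : P →₀ ℕ => f x) hαβ
          simpa [Finsupp.erase_ne hx] using this
      rw [← Finset.sum_image (f := wt t) hinj]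
      apply ih
      intro α' hα'
      obtain ⟨α, hα, rfl⟩ := Finset.mem_image.mp hα'
      rw [Finsupp.support_erase]
      intro x hx
      rw [Finset.mem_erase] at hx
      have h2 := hT α (Finset.mem_filter.mp hα).1 hx.2
      exact (Finset.mem_insert.mp h2).resolve_left hx.1
    calc ∑ j ∈ Finset.range (M + 1), ∑ α ∈ T.filter (fun α => α y = j), wt t α
        ≤ ∑ j ∈ Finset.range (M + 1), t y ^ j * ∏ x ∈ S', (1 - t x)⁻¹ :=
          Finset.sum_le_sum hj
      _ = (∑ j ∈ Finset.range (M + 1), t y ^ j) * ∏ x ∈ S', (1 - t x)⁻¹ := by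
          rw [Finset.sum_mul]
      _ ≤ (1 - t y)⁻¹ * ∏ x ∈ S', (1 - t x)⁻¹ :=
          mul_le_mul_of_nonneg_right (geom_le (t y) (ht0 y) (ht1 y) _) hP

lemma inv_one_sub_le_exp (u u₀ : ℝ) (h0 : 0 ≤ u) (h1 : u ≤ u₀) (h2 : u₀ < 1) :
    (1 - u)⁻¹ ≤ Real.exp (u / (1 - u₀)) := by
  have h3 : 0 < 1 - u := by linarith
  have h4 : 0 < 1 - u₀ := by linarith
  have h5 : (1 - u)⁻¹ = 1 + u / (1 - u) := by
    field_simp
    ring
  rw [h5]
  have h6 : u / (1 - u) ≤ u / (1 - u₀) := div_le_div_of_nonneg_left h0 h4 (by linarith)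
  have h7 := Real.add_one_le_exp (u / (1 - u₀))
  linarith

theorem sum_wt_le_exp (t : P → ℝ) (ht0 : ∀ x, 0 ≤ t x) (u₀ : ℝ) (hu₀ : u₀ < 1)
    (ht1 : ∀ x, t x ≤ u₀) (hsum : Summable t) (T : Finset (P →₀ ℕ)) :
    ∑ α ∈ T, wt t α ≤ Real.exp ((∑' x, t x) / (1 - u₀)) := by
  classical
  set S := T.biUnion (fun α => α.support) with hS
  have h1 := sum_wt_le t ht0 (fun x => lt_of_le_of_lt (ht1 x) hu₀) S T
    (fun α hα => Finset.subset_biUnion_of_mem (fun α : P →₀ ℕ => α.support) hα)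
  refine h1.trans ?_
  have h4 : 0 < 1 - u₀ := by linarith
  calc ∏ x ∈ S, (1 - t x)⁻¹ ≤ ∏ x ∈ S, Real.exp (t x / (1 - u₀)) :=
        Finset.prod_le_prod (fun x _ => inv_nonneg.mpr
          (by have := ht1 x; linarith)) (fun x _ => inv_one_sub_le_exp _ _ (ht0 x) (ht1 x) hu₀)
    _ = Real.exp (∑ x ∈ S, t x / (1 - u₀)) := (Real.exp_sum _ _).symm
    _ ≤ Real.exp ((∑' x, t x) / (1 - u₀)) := by
        rw [Real.exp_le_exp, ← Finset.sum_div]
        exact div_le_div_of_nonneg_right (hsum.sum_le_tsum _ (fun x _ => ht0 x)) h4.le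

variable (ν : P → ℕ) (hν : ∀ x, 2 ≤ ν x) (hfin : ∀ n, {x | ν x ≤ n}.Finite)

lemma wt_eq (σ : ℝ) (α : P →₀ ℕ) :
    wt (fun x => (ν x : ℝ) ^ (-σ)) α = ((nu ν α : ℕ) : ℝ) ^ (-σ) := by
  unfold wt nu Finsupp.prod
  rw [Nat.cast_prod, ← Real.finset_prod_rpow _ _ (fun x _ => by positivity)]
  refine Finset.prod_congr rfl fun x _ => ?_
  show ((ν x : ℝ) ^ (-σ)) ^ (α x) = (((ν x ^ α x : ℕ) : ℝ)) ^ (-σ)
  rw [Nat.cast_pow, Real.rpow_pow_comm (Nat.cast_nonneg _)]

theorem summable_card_Cf (σ : ℝ) (hσ : 0 < σ)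
    (hsum : Summable (fun x => (ν x : ℝ) ^ (-σ))) :
    Summable (fun n : ℕ => ((Cf ν hν hfin n).card : ℝ) * (n : ℝ) ^ (-σ)) := by
  classical
  set t : P → ℝ := fun x => (ν x : ℝ) ^ (-σ) with ht
  have ht0 : ∀ x, 0 ≤ t x := fun x => Real.rpow_nonneg (Nat.cast_nonneg _) _
  have hu₀ : (2 : ℝ) ^ (-σ) < 1 := Real.rpow_lt_one_of_one_lt_of_neg (by norm_num) (by linarith)
  have ht1 : ∀ x, t x ≤ (2 : ℝ) ^ (-σ) := by
    intro x
    apply Real.rpow_le_rpow_of_nonpos (by norm_num) _ (by linarith)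
    exact_mod_cast hν x
  refine summable_of_sum_le (c := Real.exp ((∑' x, t x) / (1 - (2 : ℝ) ^ (-σ))))
    (fun n => by positivity) (fun R => ?_)
  have h1 : ∀ n ∈ R, ((Cf ν hν hfin n).card : ℝ) * (n : ℝ) ^ (-σ) =
      ∑ α ∈ Cf ν hν hfin n, wt t α := by
    intro n _
    have h2 : ∀ α ∈ Cf ν hν hfin n, wt t α = (n : ℝ) ^ (-σ) := by
      intro α hα
      rw [ht, wt_eq, (mem_Cf ν hν hfin).mp hα]
    rw [Finset.sum_congr rfl h2, Finset.sum_const, nsmul_eq_mul]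
  rw [Finset.sum_congr rfl h1, ← Finset.sum_biUnion]
  · exact sum_wt_le_exp t ht0 _ hu₀ ht1 hsum _
  · intro n _ m _ hnm
    rw [Function.onFun, Finset.disjoint_left]
    intro α hα hα'
    rw [mem_Cf] at hα hα'
    exact hnm (hα.symm.trans hα')

end Groth.Agent.Lib.Helper18.ArithZeta
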