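import Groth.Agent.Lib.Helper18.ArithZeta.Moebius
import Groth.Agent.Lib.Helper18.ArithZeta.Summable

/-! # The Dirichlet series of effective cycles: convergence and nonvanishing -/

set_option autoImplicit false
set_option linter.style.haveILetI false
set_option linter.unusedSectionVars false

open LSeries
open scoped LSeries.notation

namespace Groth.Agent.Lib.Helper18.ArithZeta

theorem abstract_main {P : Type*} (ν : P → ℕ) (hν : ∀ x, 2 ≤ ν x)
    (hfin : ∀ n, {x | ν x ≤ n}.Finite) (r : ℝ) (hr : 0 ≤ r)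
    (hsum : ∀ σ : ℝ, r < σ → Summable (fun x => (ν x : ℝ) ^ (-σ))) :
    LSeries.abscissaOfAbsConv
        (fun n => ((Nat.card {α : P →₀ ℕ // nu ν α = n} : ℕ) : ℂ)) ≤ (r : ℝ) ∧
      ∀ s : ℂ, r < s.re →
        LSeries (fun n => ((Nat.card {α : P →₀ ℕ // nu ν α = n} : ℕ) : ℂ)) s ≠ 0 := by
  classical
  have hab : (fun n => ((Nat.card {α : P →₀ ℕ // nu ν α = n} : ℕ) : ℂ)) =
      fun n => (((Cf ν hν hfin n).card : ℕ) : ℂ) := by
    funext n
    rw [card_Cf ν hν hfin n]
  rw [hab]
  set a : ℕ → ℂ := fun n => (((Cf ν hν hfin n).card : ℕ) : ℂ) with ha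
  set b : ℕ → ℂ := fun n => ((bcoef ν hν hfin n : ℤ) : ℂ) with hb
  have hnorm_a : ∀ n, ‖a n‖ = ((Cf ν hν hfin n).card : ℝ) := fun n => Complex.norm_natCast _
  have hba : ∀ n, ‖b n‖ ≤ ‖a n‖ := by
    intro n
    rw [hnorm_a, hb]
    show ‖((bcoef ν hν hfin n : ℤ) : ℂ)‖ ≤ _
    rw [Complex.norm_intCast]
    exact_mod_cast abs_bcoef_le ν hν hfin n
  have hsa : ∀ s : ℂ, r < s.re → Summable (fun n => ‖LSeries.term a s n‖) := by
    intro s hs
    have h1 := summable_card_Cf ν hν hfin s.re (lt_of_le_of_lt hr hs) (hsum s.re hs)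
    refine Summable.of_nonneg_of_le (fun n => norm_nonneg _) (fun n => ?_) h1
    rw [LSeries.norm_term_eq]
    split_ifs with h0
    · positivity
    · rw [hnorm_a, Real.rpow_neg (Nat.cast_nonneg _), div_eq_mul_inv]
  have hLa : ∀ s : ℂ, r < s.re → LSeriesSummable a s := fun s hs => (hsa s hs).of_norm
  have hLb : ∀ s : ℂ, r < s.re → LSeriesSummable b s := by
    intro s hs
    refine Summable.of_norm_bounded (hsa s hs) (fun n => ?_)
    exact LSeries.norm_term_le s (hba n)
  refine ⟨?_, fun s hs => ?_⟩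
  · apply LSeries.abscissaOfAbsConv_le_of_forall_lt_LSeriesSummable
    intro y hy
    exact hLa (y : ℂ) (by rwa [Complex.ofReal_re])
  · have h1 := LSeries_convolution' (hLa s hs) (hLb s hs)
    have h2 : LSeries (a ⍟ b) s = LSeries δ s := by
      apply LSeries_congr
      intro n hn
      rw [LSeries.convolution_def]
      have h3 := sum_divisorsAntidiagonal ν hν hfin n hn
      have h4 := congrArg (fun z : ℤ => (z : ℂ)) h3
      simp only [Int.cast_sum, Int.cast_mul, Int.cast_natCast] at h4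
      rw [ha, hb]
      simp only
      rw [h4]
      unfold LSeries.delta
      split_ifs <;> simp
    rw [h2, LSeries_delta, Pi.one_apply] at h1
    intro h0
    rw [h0, zero_mul] at h1
    exact one_ne_zero h1

end Groth.Agent.Lib.Helper18.ArithZeta
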