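import Mathlib

/-! # Effective cycles on a set of points with norms: basic facts -/

set_option autoImplicit false
set_option linter.style.haveILetI false
set_option linter.unusedSectionVars false

namespace Groth.Agent.Lib.Helper18.ArithZeta

variable {P : Type*} (ν : P → ℕ)

/-- The norm of an effective cycle. -/
noncomputable def nu (α : P →₀ ℕ) : ℕ := α.prod (fun x m => ν x ^ m)

lemma nu_zero : nu ν 0 = 1 := Finsupp.prod_zero_index

lemma nu_add (α β : P →₀ ℕ) : nu ν (α + β) = nu ν α * nu ν β :=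
  Finsupp.prod_add_index' (fun _ => pow_zero _) (fun _ _ _ => pow_add _ _ _)

lemma nu_single (x : P) (j : ℕ) : nu ν (Finsupp.single x j) = ν x ^ j :=
  Finsupp.prod_single_index (pow_zero _)

section pos

variable (hν : ∀ x, 2 ≤ ν x)
include hν

lemma nu_pos (α : P →₀ ℕ) : 0 < nu ν α :=
  Finset.prod_pos fun x _ => pow_pos (by have := hν x; omega) _

lemma pow_apply_le_nu (α : P →₀ ℕ) (x : P) : ν x ^ α x ≤ nu ν α := by
  classical
  have h1 : α = α.erase x + Finsupp.single x (α x) := by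
    ext y
    by_cases hy : y = x
    · subst hy; simp
    · simp [Finsupp.single_apply, hy, Ne.symm hy]
  have h2 : nu ν α = nu ν (α.erase x) * ν x ^ α x := by
    conv_lhs => rw [h1]
    rw [nu_add, nu_single]
  rw [h2]
  exact Nat.le_mul_of_pos_left _ (nu_pos ν hν _)

lemma apply_lt_nu (α : P →₀ ℕ) (x : P) : α x < nu ν α :=
  calc α x < 2 ^ α x := Nat.lt_two_pow_self
    _ ≤ ν x ^ α x := Nat.pow_le_pow_left (hν x) _
    _ ≤ nu ν α := pow_apply_le_nu ν hν α x

lemma le_nu_of_mem_support {α : P →₀ ℕ} {x : P} (hx : x ∈ α.support) : ν x ≤ nu ν α := by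
  have h1 : 1 ≤ α x := Nat.one_le_iff_ne_zero.mpr (Finsupp.mem_support_iff.mp hx)
  calc ν x = ν x ^ 1 := (pow_one _).symm
    _ ≤ ν x ^ α x := Nat.pow_le_pow_right (by have := hν x; omega) h1
    _ ≤ nu ν α := pow_apply_le_nu ν hν α x

lemma nu_eq_one_iff (α : P →₀ ℕ) : nu ν α = 1 ↔ α = 0 := by
  constructor
  · intro h
    ext x
    have h1 := apply_lt_nu ν hν α x
    rw [h] at h1
    simpa using Nat.lt_one_iff.mp h1
  · rintro rfl
    exact nu_zero ν

variable (hfin : ∀ n, {x | ν x ≤ n}.Finite)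
include hfin

lemma finite_C (n : ℕ) : {α : P →₀ ℕ | nu ν α = n}.Finite := by
  classical
  refine (Finset.finite_toSet ((hfin n).toFinset.finsupp (fun _ => Finset.range n))).subset ?_
  intro α hα
  have hα' : nu ν α = n := hα
  rw [Finset.mem_coe, Finset.mem_finsupp_iff]
  refine ⟨fun x hx => ?_, fun x _ => ?_⟩
  · rw [Set.Finite.mem_toFinset]
    show ν x ≤ n
    rw [← hα']
    exact le_nu_of_mem_support ν hν hx
  · rw [Finset.mem_range, ← hα']
    exact apply_lt_nu ν hν α x

/-- The finite set of cycles of norm `n`. -/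
noncomputable def Cf (n : ℕ) : Finset (P →₀ ℕ) := (finite_C ν hν hfin n).toFinset

lemma mem_Cf {n : ℕ} {α : P →₀ ℕ} : α ∈ Cf ν hν hfin n ↔ nu ν α = n := by
  unfold Cf
  rw [Set.Finite.mem_toFinset]
  rfl

lemma card_Cf (n : ℕ) : Nat.card {α : P →₀ ℕ // nu ν α = n} = (Cf ν hν hfin n).card := by
  unfold Cf
  rw [← Set.ncard_eq_toFinset_card _ (finite_C ν hν hfin n)]
  rfl

end pos

end Groth.Agent.Lib.Helper18.ArithZeta
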