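import Groth.Agent.Lib.Helper18.ArithZeta.Basic

/-! # The Möbius function on effective cycles and the inverse Dirichlet series -/

set_option autoImplicit false
set_option linter.style.haveILetI false
set_option linter.unusedSectionVars false

namespace Groth.Agent.Lib.Helper18.ArithZeta

variable {P : Type*}

/-- The Möbius function of an effective cycle. -/
noncomputable def mu (β : P →₀ ℕ) : ℤ :=
  haveI := Classical.dec (∀ x, β x ≤ 1)
  if ∀ x, β x ≤ 1 then (-1) ^ β.support.card else 0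

lemma abs_mu_le (β : P →₀ ℕ) : |mu β| ≤ 1 := by
  unfold mu
  split_ifs
  · rw [abs_pow, abs_neg, abs_one, one_pow]
  · simp

/-- The indicator cycle of a finite set. -/
noncomputable def ind (S : Finset P) : P →₀ ℕ :=
  haveI := Classical.decEq P
  Finsupp.onFinset S (fun x => if x ∈ S then 1 else 0) (fun x hx => by
    by_contra h
    simp [h] at hx)

lemma ind_apply (S : Finset P) (x : P) [Decidable (x ∈ S)] :
    ind S x = if x ∈ S then 1 else 0 := by
  unfold ind
  rw [Finsupp.onFinset_apply]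
  split_ifs <;> rfl

lemma support_ind (S : Finset P) : (ind S).support = S := by
  classical
  ext x
  rw [Finsupp.mem_support_iff, ind_apply]
  split_ifs with h <;> simp [h]

lemma ind_le_one (S : Finset P) (x : P) : ind S x ≤ 1 := by
  classical
  rw [ind_apply]
  split_ifs <;> simp

lemma eq_ind_support {β : P →₀ ℕ} (h : ∀ x, β x ≤ 1) : β = ind β.support := by
  classical
  ext x
  rw [ind_apply]
  split_ifs with hx
  · have h1 := Finsupp.mem_support_iff.mp hx
    have h2 := h x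
    omega
  · exact Finsupp.notMem_support_iff.mp hx

lemma sum_antidiagonal_mu [DecidableEq P] (γ : P →₀ ℕ) :
    ∑ p ∈ Finset.HasAntidiagonal.antidiagonal γ, mu p.2 = if γ = 0 then 1 else 0 := by
  classical
  have h1 : ∑ p ∈ Finset.HasAntidiagonal.antidiagonal γ, mu p.2 =
      ∑ p ∈ (Finset.HasAntidiagonal.antidiagonal γ).filter (fun p => ∀ x, p.2 x ≤ 1),
        (-1 : ℤ) ^ p.2.support.card := by
    rw [Finset.sum_filter]
    refine Finset.sum_congr rfl fun p _ => ?_
    unfold mu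
    split_ifs <;> rfl
  rw [h1]
  have h2 : ∑ p ∈ (Finset.HasAntidiagonal.antidiagonal γ).filter (fun p => ∀ x, p.2 x ≤ 1),
        (-1 : ℤ) ^ p.2.support.card = ∑ S ∈ γ.support.powerset, (-1 : ℤ) ^ S.card := by
    symm
    refine Finset.sum_nbij' (fun S => (γ - ind S, ind S)) (fun p => p.2.support) ?_ ?_ ?_ ?_ ?_
    · intro S hS
      rw [Finset.mem_powerset] at hS
      rw [Finset.mem_filter, Finset.HasAntidiagonal.mem_antidiagonal]
      refine ⟨?_, fun x => ind_le_one S x⟩
      apply tsub_add_cancel_of_le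
      intro x
      rw [ind_apply]
      split_ifs with hx
      · exact Nat.one_le_iff_ne_zero.mpr (Finsupp.mem_support_iff.mp (hS hx))
      · exact Nat.zero_le _
    · intro p hp
      rw [Finset.mem_filter, Finset.HasAntidiagonal.mem_antidiagonal] at hp
      rw [Finset.mem_powerset]
      intro x hx
      rw [Finsupp.mem_support_iff] at hx ⊢
      have h3 := congrArg (fun f : P →₀ ℕ => f x) hp.1
      simp only [Finsupp.add_apply] at h3
      omega
    · intro S _
      exact support_ind S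
    · intro p hp
      rw [Finset.mem_filter, Finset.HasAntidiagonal.mem_antidiagonal] at hp
      have h3 : ind p.2.support = p.2 := (eq_ind_support hp.2).symm
      ext x : 2
      · show (γ - ind p.2.support) x = p.1 x
        rw [h3, ← hp.1]
        simp
      · show (ind p.2.support) x = p.2 x
        rw [h3]
    · intro S _
      show (-1 : ℤ) ^ S.card = (-1) ^ (ind S).support.card
      rw [support_ind]
  rw [h2, Finset.sum_powerset_neg_one_pow_card]
  simp only [Finsupp.support_eq_empty]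

variable (ν : P → ℕ) (hν : ∀ x, 2 ≤ ν x) (hfin : ∀ n, {x | ν x ≤ n}.Finite)

/-- The coefficients of the inverse Dirichlet series. -/
noncomputable def bcoef (n : ℕ) : ℤ := ∑ β ∈ Cf ν hν hfin n, mu β

lemma abs_bcoef_le (n : ℕ) : |bcoef ν hν hfin n| ≤ (Cf ν hν hfin n).card := by
  unfold bcoef
  refine (Finset.abs_sum_le_sum_abs _ _).trans ?_
  calc ∑ β ∈ Cf ν hν hfin n, |mu β| ≤ ∑ _β ∈ Cf ν hν hfin n, (1 : ℤ) :=
        Finset.sum_le_sum fun β _ => abs_mu_le β
    _ = (Cf ν hν hfin n).card := by simp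

/-- The convolution identity. -/
theorem sum_divisorsAntidiagonal (n : ℕ) (hn : n ≠ 0) :
    ∑ p ∈ n.divisorsAntidiagonal, ((Cf ν hν hfin p.1).card : ℤ) * bcoef ν hν hfin p.2 =
      if n = 1 then 1 else 0 := by
  classical
  have h1 : ∀ p ∈ n.divisorsAntidiagonal, ((Cf ν hν hfin p.1).card : ℤ) * bcoef ν hν hfin p.2 =
      ∑ q ∈ Cf ν hν hfin p.1 ×ˢ Cf ν hν hfin p.2, mu q.2 := by
    intro p _
    rw [Finset.sum_product]
    simp only
    rw [Finset.sum_const, nsmul_eq_mul]
    rfl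
  rw [Finset.sum_congr rfl h1, Finset.sum_sigma']
  have h2 : ∑ x ∈ n.divisorsAntidiagonal.sigma
      (fun p => Cf ν hν hfin p.1 ×ˢ Cf ν hν hfin p.2), mu x.2.2 =
      ∑ y ∈ (Cf ν hν hfin n).sigma (fun γ => Finset.HasAntidiagonal.antidiagonal γ),
        mu y.2.2 := by
    refine Finset.sum_nbij' (fun x => ⟨x.2.1 + x.2.2, x.2⟩)
      (fun y => ⟨(nu ν y.2.1, nu ν y.2.2), y.2⟩) ?_ ?_ ?_ ?_ ?_
    · rintro ⟨⟨k, l⟩, ⟨α, β⟩⟩ hx
      rw [Finset.mem_sigma, Finset.mem_product, Nat.mem_divisorsAntidiagonal,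
        mem_Cf, mem_Cf] at hx
      rw [Finset.mem_sigma, mem_Cf, Finset.HasAntidiagonal.mem_antidiagonal]
      refine ⟨?_, rfl⟩
      show nu ν (α + β) = n
      rw [nu_add, hx.2.1, hx.2.2]
      exact hx.1.1
    · rintro ⟨γ, ⟨α, β⟩⟩ hy
      rw [Finset.mem_sigma, mem_Cf, Finset.HasAntidiagonal.mem_antidiagonal] at hy
      rw [Finset.mem_sigma, Finset.mem_product, Nat.mem_divisorsAntidiagonal,
        mem_Cf, mem_Cf]
      refine ⟨⟨?_, hn⟩, rfl, rfl⟩
      show nu ν α * nu ν β = n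
      have h3 : α + β = γ := hy.2
      rw [← nu_add, h3]
      exact hy.1
    · rintro ⟨⟨k, l⟩, ⟨α, β⟩⟩ hx
      rw [Finset.mem_sigma, Finset.mem_product, Nat.mem_divisorsAntidiagonal,
        mem_Cf, mem_Cf] at hx
      have h3 : nu ν α = k := hx.2.1
      have h4 : nu ν β = l := hx.2.2
      show (⟨(nu ν α, nu ν β), (α, β)⟩ : Σ _ : ℕ × ℕ, (P →₀ ℕ) × (P →₀ ℕ)) = ⟨(k, l), (α, β)⟩
      rw [h3, h4]
    · rintro ⟨γ, ⟨α, β⟩⟩ hy
      rw [Finset.mem_sigma, mem_Cf, Finset.HasAntidiagonal.mem_antidiagonal] at hy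
      have h3 : α + β = γ := hy.2
      show (⟨α + β, (α, β)⟩ : Σ _ : P →₀ ℕ, (P →₀ ℕ) × (P →₀ ℕ)) = ⟨γ, (α, β)⟩
      rw [h3]
    · intro x _
      rfl
  rw [h2, Finset.sum_sigma]
  have h5 : ∀ γ ∈ Cf ν hν hfin n, ∑ p ∈ Finset.HasAntidiagonal.antidiagonal γ, mu p.2 =
      if γ = 0 then 1 else 0 := fun γ _ => sum_antidiagonal_mu γ
  rw [Finset.sum_congr rfl h5, Finset.sum_ite_eq']
  by_cases h1n : n = 1
  · subst h1n
    rw [if_pos rfl, if_pos]
    rw [mem_Cf]
    exact nu_zero ν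
  · rw [if_neg h1n, if_neg]
    rw [mem_Cf, nu_zero]
    exact fun h => h1n h.symm

end Groth.Agent.Lib.Helper18.ArithZeta
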