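import Groth.Agent.Lib.Helper18.ArithZeta.Points

/-! # Summability of `∑ N(x)^{-σ}` over the closed points of a scheme of finite type over `ℤ` -/

set_option autoImplicit false
set_option linter.style.haveILetI false
set_option linter.unusedSectionVars false

universe u

open AlgebraicGeometry CategoryTheory

namespace Groth.Agent.Lib.Helper18.ArithZeta

open Groth.Agent.Lib.Helper18.ArithCount

attribute [local instance] Classical.propDecidable

/-- A sum over a set mapping to `ℕ` with bounded fibres. -/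
theorem summable_of_fibre_bound {ι : Type*} (φ : ι → ℕ) (B : ℕ → ℝ)
    (hB : ∀ (n : ℕ) (T : Finset ι), (∀ x ∈ T, φ x = n) → (T.card : ℝ) ≤ B n)
    (g : ℕ → ℝ) (hg : ∀ n, 0 ≤ g n) (hs : Summable (fun n => B n * g n)) :
    Summable (fun x => g (φ x)) := by
  classical
  have hB0 : ∀ n, 0 ≤ B n := fun n => by simpa using hB n ∅ (by simp)
  refine summable_of_sum_le (c := ∑' n, B n * g n) (fun x => hg _) (fun T => ?_)
  rw [← Finset.sum_fiberwise_of_maps_to (s := T) (t := T.image φ) (g := φ)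
    (fun x hx => Finset.mem_image_of_mem φ hx)]
  calc ∑ n ∈ T.image φ, ∑ x ∈ T.filter (fun x => φ x = n), g (φ x)
      = ∑ n ∈ T.image φ, ((T.filter (fun x => φ x = n)).card : ℝ) * g n := by
        refine Finset.sum_congr rfl fun n _ => ?_
        rw [Finset.sum_congr rfl (fun x hx => by rw [(Finset.mem_filter.mp hx).2]),
          Finset.sum_const, nsmul_eq_mul]
    _ ≤ ∑ n ∈ T.image φ, B n * g n :=
        Finset.sum_le_sum fun n _ => mul_le_mul_of_nonneg_right
          (hB n _ (fun x hx => (Finset.mem_filter.mp hx).2)) (hg n)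
    _ ≤ ∑' n, B n * g n :=
        hs.sum_le_tsum _ (fun n _ => mul_nonneg (hB0 n) (hg n))

theorem finite_of_fibre_bound {ι : Type*} (φ : ι → ℕ) (B : ℕ → ℝ)
    (hB : ∀ (n : ℕ) (T : Finset ι), (∀ x ∈ T, φ x = n) → (T.card : ℝ) ≤ B n) (n : ℕ) :
    {x | φ x ≤ n}.Finite := by
  have h1 : ∀ k, {x | φ x = k}.Finite := by
    intro k
    by_contra hinf
    obtain ⟨T, hT, hcard⟩ := Set.Infinite.exists_subset_card_eq hinf (⌈B k⌉₊ + 1)
    have h2 := hB k T (fun x hx => hT hx)
    rw [hcard] at h2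
    have h3 := Nat.le_ceil (B k)
    push_cast at h2
    linarith
  refine (Set.Finite.biUnion (Finset.range (n + 1)).finite_toSet (fun k _ => h1 k)).subset ?_
  intro x hx
  simp only [Set.mem_iUnion, Set.mem_setOf_eq, Finset.coe_range, Set.mem_Iio, exists_prop]
  exact ⟨φ x, Nat.lt_succ_of_le hx, rfl⟩

/-- The bounding function. -/
noncomputable def Bd (C P r : ℕ) (n : ℕ) : ℝ :=
  (C : ℝ) * (n : ℝ) ^ ((r : ℝ) - 1) +
    ∑ p ∈ (Finset.range P).filter Nat.Prime,
      if ∃ m : ℕ, n = p ^ m then (C : ℝ) * (n : ℝ) ^ (r : ℝ) else 0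

lemma summable_Bd (C P r : ℕ) (σ : ℝ) (hσ : (r : ℝ) < σ) :
    Summable (fun n : ℕ => Bd C P r n * (n : ℝ) ^ (-σ)) := by
  unfold Bd
  simp only [add_mul, Finset.sum_mul]
  refine Summable.add ?_ (summable_sum fun p hp => ?_)
  · have h1 : Summable (fun n : ℕ => (C : ℝ) * (n : ℝ) ^ ((r : ℝ) - 1 - σ)) :=
      (Real.summable_nat_rpow.mpr (by linarith)).mul_left _
    refine h1.congr fun n => ?_
    rcases Nat.eq_zero_or_pos n with rfl | hn
    · rw [Nat.cast_zero, Real.zero_rpow (by linarith : (r : ℝ) - 1 - σ ≠ 0),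
        Real.zero_rpow (by linarith [Nat.cast_nonneg (α := ℝ) r] : -σ ≠ 0)]
      simp
    · have hn' : (0 : ℝ) < n := by exact_mod_cast hn
      rw [mul_assoc, ← Real.rpow_add hn']
      congr 2
  · have hp2 : p.Prime := (Finset.mem_filter.mp hp).2
    have hinj : Function.Injective (fun m : ℕ => p ^ m) := Nat.pow_right_injective hp2.two_le
    rw [← hinj.summable_iff]
    · have hp0 : (0 : ℝ) < p := by exact_mod_cast hp2.pos
      have hratio : (p : ℝ) ^ ((r : ℝ) - σ) < 1 :=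
        Real.rpow_lt_one_of_one_lt_of_neg (by exact_mod_cast hp2.one_lt) (by linarith)
      have h1 : Summable (fun m : ℕ => (C : ℝ) * ((p : ℝ) ^ ((r : ℝ) - σ)) ^ m) :=
        (summable_geometric_of_lt_one (Real.rpow_nonneg hp0.le _) hratio).mul_left _
      refine h1.congr fun m => ?_
      show _ = (if ∃ m' : ℕ, p ^ m = p ^ m' then (C : ℝ) * ((p ^ m : ℕ) : ℝ) ^ (r : ℝ) else 0) *
        ((p ^ m : ℕ) : ℝ) ^ (-σ)
      rw [if_pos ⟨m, rfl⟩, mul_assoc]
      have hpm : (0 : ℝ) < ((p ^ m : ℕ) : ℝ) := by exact_mod_cast pow_pos hp2.pos m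
      rw [← Real.rpow_add hpm, Nat.cast_pow, ← Real.rpow_natCast, ← Real.rpow_natCast,
        ← Real.rpow_mul hp0.le, ← Real.rpow_mul hp0.le]
      congr 2
      ring
    · intro n hn
      rw [if_neg, zero_mul]
      rintro ⟨m, rfl⟩
      exact hn ⟨m, rfl⟩

variable (X : Scheme.{u}) [CompactSpace X]
  [LocallyOfFiniteType (Limits.IsTerminal.from specULiftZIsTerminal X)]

theorem exists_fibre_bound (r : ℕ) (hr : topologicalKrullDim X ≤ r) :
    ∃ C P : ℕ, ∀ (n : ℕ) (T : Finset (Pt X)), (∀ x ∈ T, νP X x = n) →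
      (T.card : ℝ) ≤ Bd C P r n := by
  classical
  obtain ⟨C, P, hCP⟩ := exists_card_points_le X r hr
  refine ⟨C, P, fun n T hT => ?_⟩
  have hBd0 : 0 ≤ Bd C P r n := by
    unfold Bd
    refine add_nonneg (by positivity) (Finset.sum_nonneg fun p _ => ?_)
    split_ifs
    · positivity
    · exact le_refl _
  rcases T.eq_empty_or_nonempty with rfl | ⟨x₀, hx₀⟩
  · simpa using hBd0
  haveI := finite_residueField X x₀
  set F := X.residueField x₀.1 with hF
  have hn : Nat.card F = n := hT x₀ hx₀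
  obtain ⟨hfin, h2, h3⟩ := hCP F
  haveI := hfin
  have hcard := card_fibre_le X F T (fun x hx => by rw [hT x hx, hn])
  have hcardR : (T.card : ℝ) ≤ (Nat.card (Spec (CommRingCat.of F) ⟶ X) : ℝ) := by
    exact_mod_cast hcard
  obtain ⟨p, hpF⟩ := CharP.exists F
  haveI := hpF
  letI : Fintype F := Fintype.ofFinite F
  obtain ⟨m, hpp, hm⟩ := FiniteField.card F p
  have hnm : n = p ^ (m : ℕ) := by rw [← hn, Nat.card_eq_fintype_card, hm]
  have hn0 : (0 : ℝ) < n := by
    rw [hnm]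
    exact_mod_cast pow_pos hpp.pos _
  have hp0 : ((p : ℕ) : F) = 0 := CharP.cast_eq_zero F p
  refine hcardR.trans ?_
  unfold Bd
  by_cases hPp : P ≤ p
  · have h4 := h3 p hpp hPp hp0
    rw [hn] at h4
    have h5 : (Nat.card (Spec (CommRingCat.of F) ⟶ X) : ℝ) * (n : ℝ) ≤ (C : ℝ) * (n : ℝ) ^ r := by
      exact_mod_cast h4
    have h6 : (Nat.card (Spec (CommRingCat.of F) ⟶ X) : ℝ) ≤
        (C : ℝ) * (n : ℝ) ^ ((r : ℝ) - 1) := by
      rw [Real.rpow_sub_one hn0.ne', Real.rpow_natCast, ← mul_div_assoc, le_div_iff₀ hn0]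
      exact h5
    refine h6.trans (le_add_of_nonneg_right (Finset.sum_nonneg fun q _ => ?_))
    split_ifs
    · positivity
    · exact le_refl _
  · rw [hn] at h2
    have h5 : (Nat.card (Spec (CommRingCat.of F) ⟶ X) : ℝ) ≤ (C : ℝ) * (n : ℝ) ^ (r : ℝ) := by
      rw [Real.rpow_natCast]
      exact_mod_cast h2
    have hmem : p ∈ (Finset.range P).filter Nat.Prime :=
      Finset.mem_filter.mpr ⟨Finset.mem_range.mpr (not_le.mp hPp), hpp⟩
    have h6 : (C : ℝ) * (n : ℝ) ^ (r : ℝ) ≤ ∑ q ∈ (Finset.range P).filter Nat.Prime,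
        if ∃ m : ℕ, n = q ^ m then (C : ℝ) * (n : ℝ) ^ (r : ℝ) else 0 := by
      have h7 := Finset.single_le_sum (f := fun q : ℕ =>
        if ∃ m : ℕ, n = q ^ m then (C : ℝ) * (n : ℝ) ^ (r : ℝ) else 0) (fun q _ => by
          show 0 ≤ if ∃ m : ℕ, n = q ^ m then (C : ℝ) * (n : ℝ) ^ (r : ℝ) else 0
          split_ifs
          · positivity
          · exact le_refl _) hmem
      rwa [if_pos ⟨(m : ℕ), hnm⟩] at h7
    refine h5.trans (h6.trans (le_add_of_nonneg_left (by positivity)))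

theorem summable_νP (r : ℕ) (hr : topologicalKrullDim X ≤ r) (σ : ℝ) (hσ : (r : ℝ) < σ) :
    Summable (fun x : Pt X => (νP X x : ℝ) ^ (-σ)) := by
  obtain ⟨C, P, hCP⟩ := exists_fibre_bound X r hr
  exact summable_of_fibre_bound (νP X) (Bd C P r) hCP (fun n => (n : ℝ) ^ (-σ))
    (fun n => Real.rpow_nonneg (Nat.cast_nonneg _) _) (summable_Bd C P r σ hσ)

theorem finite_νP_le (r : ℕ) (hr : topologicalKrullDim X ≤ r) (n : ℕ) :
    {x : Pt X | νP X x ≤ n}.Finite := by
  obtain ⟨C, P, hCP⟩ := exists_fibre_bound X r hr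
  exact finite_of_fibre_bound (νP X) (Bd C P r) hCP n

end Groth.Agent.Lib.Helper18.ArithZeta
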