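import Groth.Agent.Lib.Helper18.ArithZeta.Abstract
import Groth.Agent.Lib.Helper18.ArithCount.Scheme
import Groth.Prelude.Def_W4c1zetahwZeta

/-! # Closed points of a scheme of finite type over `ℤ` and their norms -/

set_option autoImplicit false
set_option linter.style.haveILetI false
set_option linter.unusedSectionVars false

universe u

open AlgebraicGeometry CategoryTheory

namespace Groth.Agent.Lib.Helper18.ArithZeta

open Groth.Agent.Lib.Helper24.FTZ

variable (X : Scheme.{u})

/-- The closed points. -/
abbrev Pt : Type u := ↥{x : X | IsClosed ({x} : Set X)}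

/-- The norm of a closed point. -/
noncomputable def νP (x : Pt X) : ℕ := Nat.card (X.residueField x.1)

lemma norm_eq (α : X →₀ ℕ) (hα : ∀ x ∈ α.support, IsClosed ({x} : Set X)) :
    α.prod (fun x m => Nat.card (X.residueField x) ^ m) =
      nu (νP X) (α.subtypeDomain (· ∈ {x : X | IsClosed ({x} : Set X)})) := by
  rw [← Finsupp.prod_subtypeDomain_index (p := (· ∈ {x : X | IsClosed ({x} : Set X)})) hα]
  rfl

/-- Cycles of norm `n` correspond to cycles on the closed points of norm `n`. -/
noncomputable def cyclesEquiv (n : ℕ) :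
    { α : X →₀ ℕ // (∀ x ∈ α.support, IsClosed ({x} : Set X)) ∧
      α.prod (fun x m => Nat.card (X.residueField x) ^ m) = n } ≃
    { β : Pt X →₀ ℕ // nu (νP X) β = n } :=
  let e := Finsupp.restrictSupportEquiv {x : X | IsClosed ({x} : Set X)} ℕ
  let step1 : { α : X →₀ ℕ // (∀ x ∈ α.support, IsClosed ({x} : Set X)) ∧
      α.prod (fun x m => Nat.card (X.residueField x) ^ m) = n } ≃
      { α' : { α : X →₀ ℕ // (↑α.support : Set X) ⊆ {x : X | IsClosed ({x} : Set X)} } //
        α'.1.prod (fun x m => Nat.card (X.residueField x) ^ m) = n } :=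
    { toFun := fun a => ⟨⟨a.1, fun x hx => a.2.1 x hx⟩, a.2.2⟩
      invFun := fun b => ⟨b.1.1, fun x hx => b.1.2 hx, b.2⟩
      left_inv := fun _ => rfl
      right_inv := fun _ => rfl }
  step1.trans (e.subtypeEquiv (fun α' => by
    rw [norm_eq X α'.1 (fun x hx => α'.2 hx)]
    rfl))

lemma cycleNormCount_eq (n : ℕ) :
    Zeta.cycleNormCount X n = Nat.card { β : Pt X →₀ ℕ // nu (νP X) β = n } :=
  Nat.card_congr (cyclesEquiv X n)

variable [LocallyOfFiniteType (Limits.IsTerminal.from specULiftZIsTerminal X)]

lemma finite_residueField (x : Pt X) : Finite (X.residueField x.1) :=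
  (finite_residueField_iff X x.1).mp x.2

lemma two_le_νP (x : Pt X) : 2 ≤ νP X x := by
  haveI := finite_residueField X x
  exact Finite.one_lt_card

/-- The point of `X` with values in a finite field `F` attached to a closed point with
`#κ(x) = #F`. -/
noncomputable def ptOf (F : Type u) [Field F] [Finite F] (x : Pt X)
    (hx : νP X x = Nat.card F) : Spec (CommRingCat.of F) ⟶ X :=
  haveI := finite_residueField X x
  letI : Fintype (X.residueField x.1) := Fintype.ofFinite _
  letI : Fintype F := Fintype.ofFinite _
  Spec.map (CommRingCat.ofHom (FiniteField.ringEquivOfCardEq (K := X.residueField x.1) (K' := F)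
    (by rw [← Nat.card_eq_fintype_card, ← Nat.card_eq_fintype_card]; exact hx)).toRingHom) ≫
    X.fromSpecResidueField x.1

lemma ptOf_apply (F : Type u) [Field F] [Finite F] (x : Pt X)
    (hx : νP X x = Nat.card F) (z : Spec (CommRingCat.of F)) : ptOf X F x hx z = x.1 := by
  unfold ptOf
  rw [Scheme.Hom.comp_apply, Scheme.fromSpecResidueField_apply]

lemma card_fibre_le (F : Type u) [Field F] [Finite F] [Finite (Spec (CommRingCat.of F) ⟶ X)]
    (T : Finset (Pt X)) (hT : ∀ x ∈ T, νP X x = Nat.card F) :
    T.card ≤ Nat.card (Spec (CommRingCat.of F) ⟶ X) := by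
  classical
  let φ : T → (Spec (CommRingCat.of F) ⟶ X) := fun x => ptOf X F x.1 (hT x.1 x.2)
  have hφ : Function.Injective φ := by
    intro x y hxy
    apply Subtype.ext
    apply Subtype.ext
    have h1 := ptOf_apply X F x.1 (hT x.1 x.2) default
    have h2 := ptOf_apply X F y.1 (hT y.1 y.2) default
    rw [← h1, ← h2]
    exact congrArg (fun g : Spec (CommRingCat.of F) ⟶ X => g default) hxy
  have h3 := Nat.card_le_card_of_injective φ hφ
  rwa [Nat.card_eq_fintype_card, Fintype.card_coe] at h3

end Groth.Agent.Lib.Helper18.ArithZeta
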